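import Groth.Agent.L22.RatDescent.Dvr
import Groth.Agent.L22.Cyc.FiniteDeg
import Groth.Agent.L22.SymCorr.Residue
import Groth.Agent.L22.Chern.Nat
import Groth.Agent.L01.EtaEtale
import Groth.Agent.S1868
import Mathlib.FieldTheory.IntermediateField.Adjoin.Basic
import Mathlib.RingTheory.DedekindDomain.PID

/-!
Rational injectivity of the flat pullback of cycles along field extensions: finite extensions, composites and
the rational function field.
-/

set_option autoImplicit false
set_option linter.style.haveILetI false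
set_option maxSynthPendingDepth 3
set_option synthInstance.maxHeartbeats 400000
set_option backward.isDefEq.respectTransparency false
set_option backward.isDefEq.respectTransparency.types false

universe u

open CategoryTheory CategoryTheory.Limits AlgebraicGeometry TopologicalSpace Polynomial
open Groth.L22.Chern (Shift pullC pullC_coe pullC_apply pullC_mem pullC_rat pushC pushC_eq pushC_rat ratGroup)

noncomputable section

namespace Groth.L22.RatDescent

/-- The structure morphism of an extension of fields. -/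
abbrev fieldMap (k L : Type u) [Field k] [Field L] [Algebra k L] :
    Spec (CommRingCat.of L) ⟶ Spec (CommRingCat.of k) :=
  Spec.map (CommRingCat.ofHom (algebraMap k L))

theorem shift_fieldMap (k L : Type u) [Field k] [Field L] [Algebra k L] :
    Shift (fieldMap k L) (fun _ => 0) (fun _ => 0) 0 := fun _ _ => (add_zero _).symm

/-- Pullback of cycles along the extension is injective modulo torsion and rational equivalence. -/
def Inj (k L : Type u) [Field k] [Field L] [Algebra k L] : Prop :=
  ∀ (X XL : Scheme.{u}) (g : X ⟶ Spec (CommRingCat.of k)) [LocallyOfFiniteType g] [QuasiCompact g]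
    (p : XL ⟶ X) (gL : XL ⟶ Spec (CommRingCat.of L)) (_ : IsPullback p gL g (fieldMap k L))
    [IsLocallyNoetherian XL] (δ : X → ℤ) (δL : XL → ℤ) (_ : Cyc.DeltaCompat g δ fun _ => 0)
    (_ : Cyc.DeltaCompat gL δL fun _ => 0) (n : ℤ) (α : AlgebraicCycle X ℤ) (_ : α ∈ Cyc.Zk X δ n)
    (hc : Shift p δL δ 0), Cyc.RatEquivZero δL n (pullC p hc α) →
      ∃ m : ℤ, m ≠ 0 ∧ Cyc.RatEquivZero δ n (m • α)

theorem setup_over_field {k : Type u} [Field k] {X : Scheme.{u}} (g : X ⟶ Spec (CommRingCat.of k))
    [LocallyOfFiniteType g] {δ : X → ℤ} (hδ : Cyc.DeltaCompat g δ fun _ => 0) : Cyc.IsSetup X δ :=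
  Groth.L22.Chern.setup_of_compat g (Groth.L22.SymCorr.isSetup_field k) hδ

theorem inj_finite (k L : Type u) [Field k] [Field L] [Algebra k L] [Module.Finite k L] : Inj k L := by
  intro X XL g _ _ p gL sq _ δ δL hδ hδL n α hα hc h0
  have hX := setup_over_field g hδ
  haveI := hX.1
  haveI : LocallyOfFiniteType gL := MorphismProperty.of_isPullback sq ‹LocallyOfFiniteType g›
  have hXL := setup_over_field gL hδL
  haveI : IsFinite (fieldMap k L) := (IsFinite.SpecMap_iff _).2 (RingHom.finite_algebraMap.2 inferInstance)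
  haveI : Flat (fieldMap k L) := Groth.L07.SyntOverField.flat_over_field _
  haveI : IsFinite p := MorphismProperty.of_isPullback sq.flip ‹IsFinite (fieldMap k L)›
  haveI : Flat p := MorphismProperty.of_isPullback sq.flip ‹Flat (fieldMap k L)›
  have hdeg : ∀ y, p.finrank y = Module.finrank k L := fun y => by
    rw [Scheme.Hom.finrank_of_isPullback gL p (fieldMap k L) g sq.flip y]
    exact (Scheme.Hom.finrank_SpecMap_algebraMap k L (g y)).trans
      (congrFun (Module.rankAtStalk_eq_finrank_of_free (R := k) (M := L)) _)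
  have hδp : Cyc.DeltaCompat p δL δ := fun x => by
    refine ⟨0, ?_, ?_⟩
    · exact (Groth.L22.SymCorr.rtrdeg_eq_zero p x).trans Nat.cast_zero.symm
    · obtain ⟨N, hN, hd⟩ := hδL x
      obtain ⟨M, hM, hd'⟩ := hδ (p x)
      have hr := Groth.L22.Cyc.rtrdeg_congr _ sq.w x
      rw [Groth.L22.Cyc.rtrdeg_comp, Groth.L22.Cyc.rtrdeg_comp, Groth.L22.SymCorr.rtrdeg_eq_zero p,
        Groth.L22.SymCorr.rtrdeg_eq_zero (fieldMap k L), add_zero, zero_add] at hr
      have : M = N := Nat.cast_injective (R := Cardinal.{u}) ((hM.symm.trans hr).trans hN)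
      simp only [zero_add] at hd hd'
      omega
  obtain ⟨-, hpp⟩ := Groth.Agent.S1868.result XL X δL δ hXL hX p (Module.finrank k L) hdeg hδp n
  have h1 := pushC_rat p hXL.2.2 hX.2.2 hδp (k := n) h0
  rw [pushC_eq, hpp α hα _ (pullC_coe p hc α)] at h1
  refine ⟨(Module.finrank k L : ℤ), by exact_mod_cast Module.finrank_pos.ne', ?_⟩
  rwa [natCast_zsmul]

theorem inj_trans (k M L : Type u) [Field k] [Field M] [Field L] [Algebra k M] [Algebra M L] [Algebra k L]
    [IsScalarTower k M L] (h₁ : Inj k M) (h₂ : Inj M L) : Inj k L := by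
  intro X XL g _ _ p gL sq _ δ δL hδ hδL n α hα hc h0
  have hX := setup_over_field g hδ
  haveI := hX.1
  let gM : pullback g (fieldMap k M) ⟶ Spec (CommRingCat.of M) := pullback.snd _ _
  let pM : pullback g (fieldMap k M) ⟶ X := pullback.fst _ _
  have sqM : IsPullback pM gM g (fieldMap k M) := IsPullback.of_hasPullback _ _
  obtain ⟨δM, hXM, hδM⟩ := Groth.L22.Cyc.exists_setup gM (Groth.L22.SymCorr.isSetup_field M)
  haveI := hXM.1
  haveI : LocallyOfFiniteType gL := MorphismProperty.of_isPullback sq ‹LocallyOfFiniteType g›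
  have hXL := setup_over_field gL hδL
  have hcM : Shift pM δM δ 0 := shift_bc sqM (shift_fieldMap k M) hδ hδM
  have hcomp : fieldMap M L ≫ fieldMap k M = fieldMap k L := by
    rw [← Spec.map_comp, ← CommRingCat.ofHom_comp, ← IsScalarTower.algebraMap_eq]
  let q : XL ⟶ pullback g (fieldMap k M) := pullback.lift p (gL ≫ fieldMap M L)
    (by rw [sq.w, Category.assoc, hcomp])
  have sqq : IsPullback q gL gM (fieldMap M L) := by
    refine IsPullback.of_right ?_ (pullback.lift_snd _ _ _) sqM
    rw [pullback.lift_fst, hcomp]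
    exact sq
  have hcq : Shift q δL δM 0 := shift_bc sqq (shift_fieldMap M L) hδM hδL
  haveI : Flat (fieldMap M L) := Groth.L07.SyntOverField.flat_over_field _
  haveI : Flat q := MorphismProperty.of_isPullback sqq.flip ‹Flat (fieldMap M L)›
  haveI : Flat (fieldMap k M) := Groth.L07.SyntOverField.flat_over_field _
  haveI : Flat pM := MorphismProperty.of_isPullback sqM.flip ‹Flat (fieldMap k M)›
  have hβ : pullC pM hcM α ∈ Cyc.Zk _ δM n := add_zero n ▸ pullC_mem pM hcM hα
  have he : pullC p hc α = pullC q hcq (pullC pM hcM α) := Function.locallyFinsuppWithin.ext fun x => by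
    have hp : q ≫ pM = p := pullback.lift_fst _ _ _
    rw [pullC_apply, pullC_apply, pullC_apply, Groth.L22.Cyc.mult_congr p hp.symm x, Groth.L22.Cyc.mult_comp,
      ENat.toNat_mul, Nat.cast_mul, ← mul_assoc, ← Scheme.Hom.comp_apply, hp]
  rw [he] at h0
  obtain ⟨m, hm, h1⟩ := h₂ _ XL gM q gL sqq δM δL hδM hδL n _ hβ hcq h0
  rw [← map_zsmul] at h1
  obtain ⟨m', hm', h2⟩ := h₁ X _ g pM gM sqM δ δM hδ hδM n (m • α)
    (fun x hx => by simp [hα x hx]) hcM h1
  exact ⟨m' * m, mul_ne_zero hm' hm, by rwa [mul_smul]⟩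

instance isPrime_span_X (k : Type u) [Field k] : (Ideal.span {(X : k[X])}).IsPrime :=
  (Ideal.span_singleton_prime X_ne_zero).2 prime_X

/-- The local ring of the affine line at the origin. -/
abbrev Orig (k : Type u) [Field k] : Type u := Localization.AtPrime (Ideal.span {(X : k[X])})

theorem inj_ratFunc (k : Type u) [Field k] : Inj k (FractionRing (Orig k)) := by
  intro X' XL g _ _ p gL sq _ δ δL hδ hδL n α hα hc h0
  haveI : IsDiscreteValuationRing (Orig k) :=
    IsLocalization.AtPrime.isDiscreteValuationRing_of_dedekind_domain k[X]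
      (by rw [Ne, Ideal.span_singleton_eq_bot]; exact X_ne_zero) (Orig k)
  let e : Spec (CommRingCat.of (Orig k)) ⟶ Spec (CommRingCat.of k) :=
    Spec.map (CommRingCat.ofHom (algebraMap k (Orig k)))
  let j : Spec (CommRingCat.of (FractionRing (Orig k))) ⟶ Spec (CommRingCat.of (Orig k)) :=
    Spec.map (CommRingCat.ofHom (algebraMap (Orig k) (FractionRing (Orig k))))
  obtain ⟨ϖ, hϖ⟩ := IsDiscreteValuationRing.exists_irreducible (Orig k)
  haveI := Groth.L01.EtaEtale.isLocalization_away_fractionRing (Orig k) ϖ hϖ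
  haveI : IsOpenImmersion j := IsOpenImmersion.of_isLocalization ϖ
  have hjr : Set.range j = {Groth.L22.Sp.eta (Orig k)} := by
    haveI : Subsingleton ↥(Spec (CommRingCat.of (FractionRing (Orig k)))) :=
      inferInstanceAs (Subsingleton (PrimeSpectrum (FractionRing (Orig k))))
    refine Set.eq_singleton_iff_nonempty_unique_mem.2 ⟨⟨_, ⟨Nonempty.some inferInstance, rfl⟩⟩, ?_⟩
    rintro _ ⟨t, rfl⟩
    refine PrimeSpectrum.ext (Eq.trans ?_ (Groth.L22.Sp.eta_asIdeal (Orig k)).symm)
    show Ideal.comap (algebraMap (Orig k) (FractionRing (Orig k))) t.asIdeal = ⊥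
    rw [(Ideal.eq_bot_or_top t.asIdeal).resolve_right t.2.ne_top]
    exact (RingHom.ker_eq_comap_bot _).symm.trans
      ((RingHom.injective_iff_ker_eq_bot _).1 (IsFractionRing.injective _ _))
  have hcomp : j ≫ e = fieldMap k (FractionRing (Orig k)) := by
    rw [← Spec.map_comp, ← CommRingCat.ofHom_comp, ← IsScalarTower.algebraMap_eq]
  let s := Groth.L22.Sp.sp (Orig k)
  have hres : IsIso ((Spec (CommRingCat.of (Orig k))).fromSpecResidueField s ≫ e) := by
    haveI : IsClosedImmersion ((Spec (CommRingCat.of (Orig k))).fromSpecResidueField s) :=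
      IsClosedImmersion.of_isPreimmersion _ (by
        rw [Scheme.range_fromSpecResidueField]
        exact (PrimeSpectrum.isClosed_singleton_iff_isMaximal _).2 (IsLocalRing.maximalIdeal.isMaximal (Orig k)))
    obtain ⟨φ, hφ⟩ := Spec.map_surjective ((Spec (CommRingCat.of (Orig k))).fromSpecResidueField s)
    have hsurj : Function.Surjective φ.hom := by
      haveI : IsClosedImmersion (Spec.map φ) := hφ ▸ inferInstance
      have h2 := (IsClosedImmersion.isAffine_surjective_of_isAffine (Spec.map φ)).2
      have h3 : φ = (Scheme.ΓSpecIso _).inv ≫ (Spec.map φ).appTop ≫ (Scheme.ΓSpecIso _).hom := by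
        rw [Scheme.ΓSpecIso_naturality, Iso.inv_hom_id_assoc]
      rw [h3, CommRingCat.hom_comp, CommRingCat.hom_comp, RingHom.coe_comp, RingHom.coe_comp]
      exact ((ConcreteCategory.bijective_of_isIso _).2.comp h2).comp (ConcreteCategory.bijective_of_isIso _).2
    have hker : IsLocalRing.maximalIdeal (Orig k) = RingHom.ker φ.hom := by
      exact (IsLocalRing.eq_maximalIdeal (RingHom.ker_isMaximal_of_surjective φ.hom hsurj)).symm
    rw [← hφ, ← Spec.map_comp]
    haveI : IsIso (CommRingCat.ofHom (algebraMap k (Orig k)) ≫ φ) := by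
      refine (ConcreteCategory.isIso_iff_bijective _).2 ⟨RingHom.injective _, fun y => ?_⟩
      obtain ⟨r, rfl⟩ := hsurj y
      obtain ⟨⟨a, b⟩, hab⟩ := IsLocalization.surj (Ideal.span {(X : k[X])}).primeCompl r
      have hev : ∀ c : k[X], φ.hom (algebraMap k[X] (Orig k) c) =
          φ.hom (algebraMap k (Orig k) (c.eval 0)) := fun c => by
        rw [← sub_eq_zero, ← map_sub, ← RingHom.mem_ker, ← hker,
          IsScalarTower.algebraMap_apply k k[X] (Orig k) (c.eval 0), ← map_sub,
          IsLocalization.AtPrime.to_map_mem_maximal_iff (Orig k) (Ideal.span {(X : k[X])}),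
          Ideal.mem_span_singleton, X_dvd_iff]
        simp [coeff_zero_eq_eval_zero]
      have hb : (b : k[X]).eval 0 ≠ 0 := fun h => b.2 (Ideal.mem_span_singleton.2
        (X_dvd_iff.2 (by rwa [coeff_zero_eq_eval_zero])))
      refine ⟨a.eval 0 / (b : k[X]).eval 0, ?_⟩
      show φ.hom (algebraMap k (Orig k) _) = φ.hom r
      have h := congrArg φ.hom hab
      rw [map_mul, hev, hev] at h
      have hb' : φ.hom (algebraMap k (Orig k) ((b : k[X]).eval 0)) ≠ 0 := fun h' =>
        hb ((φ.hom.comp (algebraMap k (Orig k))).injective (h'.trans (map_zero _).symm))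
      apply mul_right_cancel₀ hb'
      rw [← map_mul, ← map_mul, div_mul_cancel₀ _ hb]
      exact h.symm
    infer_instance
  have hX := setup_over_field g hδ
  haveI := hX.1
  haveI : LocallyOfFiniteType gL := MorphismProperty.of_isPullback sq ‹LocallyOfFiniteType g›
  have hXL := setup_over_field gL hδL
  exact ⟨1, one_ne_zero, by
    rw [one_smul]
    exact rat_of_rat_dvr e hres j hjr g p gL (hcomp.symm ▸ sq) hδ hδL hX.2.2 hXL.2.2 hc hα h0⟩

end Groth.L22.RatDescent
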