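import Groth.Agent.L22.RatDescent.Fg
import Groth.Agent.S6497
import Mathlib.FieldTheory.IntermediateField.Adjoin.Basic
import Mathlib.FieldTheory.SeparableClosure
import Mathlib.Algebra.Category.Ring.FilteredColimits
import Mathlib.Algebra.Category.Ring.Colimits
import Mathlib.CategoryTheory.Limits.Types.Filtered

/-!
Base change to a field extension as a limit over finitely generated subextensions.
-/

set_option autoImplicit false
set_option linter.style.haveILetI false
set_option backward.isDefEq.respectTransparency.types false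
set_option backward.isDefEq.respectTransparency false
set_option backward.defeqAttrib.useBackward true

universe u

open CategoryTheory CategoryTheory.Limits AlgebraicGeometry Opposite
open Groth.L22.Chern (Shift pullC pullC_coe pullC_mem)

namespace Groth.L22.RatDescent

variable (k K : Type u) [Field k] [Field K] [Algebra k K]

/-- The finite subextensions. -/
def FSub : Type u := {L : IntermediateField k K // L.FG}

instance : PartialOrder (FSub k K) := inferInstanceAs (PartialOrder (Subtype _))

instance : Nonempty (FSub k K) := ⟨⟨⊥, IntermediateField.fg_bot⟩⟩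

instance : IsDirected (FSub k K) (· ≤ ·) :=
  ⟨fun S T => ⟨⟨S.1 ⊔ T.1, IntermediateField.fg_sup S.2 T.2⟩, le_sup_left (a := S.1),
    le_sup_right (a := S.1)⟩⟩

/-- The finite subextensions as a diagram. -/
def diagram : FSub k K ⥤ CommRingCat.{u} where
  obj S := CommRingCat.of S.1
  map {S T} h := CommRingCat.ofHom (IntermediateField.inclusion (show S.1 ≤ T.1 from h.le)).toRingHom
  map_id _ := rfl
  map_comp _ _ := rfl

/-- The extension as a cocone. -/
def cocone : Cocone (diagram k K) where
  pt := CommRingCat.of K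
  ι :=
    { app := fun S => CommRingCat.ofHom (algebraMap S.1 K)
      naturality := fun _ _ _ => rfl }


/-- An algebraic extension is the union of its finite subextensions. -/
noncomputable def isColimitCocone : IsColimit (cocone k K) := by
  haveI : PreservesColimitsOfShape (FSub k K) (forget CommRingCat.{u}) := inferInstance
  haveI : HasColimitsOfShape (FSub k K) CommRingCat.{u} := inferInstance
  haveI : ReflectsColimitsOfShape (FSub k K) (forget CommRingCat.{u}) :=
    reflectsColimitsOfShape_of_reflectsIsomorphisms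
  refine isColimitOfReflects (forget CommRingCat.{u}) ?_
  refine Types.FilteredColimit.isColimitOf' _ _ (fun x => ?_) (fun S x y h => ?_)
  · let x' : K := x
    exact ⟨⟨IntermediateField.adjoin k {x'}, IntermediateField.fg_adjoin_of_finite (Set.finite_singleton x')⟩,
      ⟨x', IntermediateField.mem_adjoin_simple_self k x'⟩, rfl⟩
  · exact ⟨S, 𝟙 S, by rw [show x = y from Subtype.ext h]⟩

variable {k K} {X : Scheme.{u}} (f : X ⟶ Spec (CommRingCat.of k))

/-- The structure morphism of a finite subextension. -/
noncomputable def sp (L : FSub k K) : Spec (CommRingCat.of L.1) ⟶ Spec (CommRingCat.of k) :=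
  Spec.map (CommRingCat.ofHom (algebraMap k L.1))

theorem map_sp {L M : FSub k K} (h : L ⟶ M) : Spec.map ((diagram k K).map h) ≫ sp L = sp M := by
  show Spec.map _ ≫ Spec.map _ = Spec.map _
  rw [← Spec.map_comp]
  rfl

/-- The base changes to the finite subextensions. -/
noncomputable def bc : (FSub k K)ᵒᵖ ⥤ Scheme.{u} where
  obj L := pullback f (sp L.unop)
  map {L M} h := pullback.lift (pullback.fst _ _) (pullback.snd _ _ ≫ Spec.map ((diagram k K).map h.unop))
    (by rw [pullback.condition, Category.assoc, map_sp])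
  map_id L := by
    apply pullback.hom_ext
    · simp
    · simp only [pullback.lift_snd, Category.id_comp, unop_id, CategoryTheory.Functor.map_id]
      erw [Spec.map_id, Category.comp_id]
  map_comp {L M N} h h' := by apply pullback.hom_ext <;> simp

/-- The base change to the extension, as a cone. -/
noncomputable def bcCone : Cone (bc (K := K) f) where
  pt := pullback f (Spec.map (CommRingCat.ofHom (algebraMap k K)))
  π :=
    { app := fun L => pullback.lift (pullback.fst _ _)
        (pullback.snd _ _ ≫ Spec.map ((cocone k K).ι.app L.unop))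
        (by
          rw [pullback.condition, Category.assoc]
          congr 1
          show Spec.map _ = Spec.map _ ≫ Spec.map _
          rw [← Spec.map_comp]
          rfl)
      naturality := fun L M h => by
        dsimp [bc]
        apply pullback.hom_ext
        · simp
        · simp only [Category.id_comp, Category.assoc, pullback.lift_snd, pullback.lift_snd_assoc,
            ← Spec.map_comp, (cocone k K).w] }

/-- The base change to the extension is the limit. -/
noncomputable def isLimitBcCone : IsLimit (bcCone (K := K) f) := by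
  haveI : PreservesLimitsOfSize.{u, u} Scheme.Spec.{u} := ΓSpec.adjunction.rightAdjoint_preservesLimits
  let hS : IsLimit (Scheme.Spec.mapCone (cocone k K).op) :=
    isLimitOfPreserves Scheme.Spec (isColimitCocone k K).op
  let L₀ : FSub k K := ⟨⊥, IntermediateField.fg_bot⟩
  let sc : ∀ s : Cone (bc (K := K) f), Cone ((diagram k K).op ⋙ Scheme.Spec) := fun s =>
    { pt := s.pt
      π :=
        { app := fun L => s.π.app L ≫ pullback.snd _ _
          naturality := fun L M h => by
            dsimp
            rw [Category.id_comp, ← s.w h, Category.assoc, Category.assoc]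
            dsimp [bc]
            rw [pullback.lift_snd] } }
  let toX : ∀ s : Cone (bc (K := K) f), s.pt ⟶ X := fun s => s.π.app (op L₀) ≫ pullback.fst _ _
  have htoX : ∀ (s : Cone (bc (K := K) f)) (L : (FSub k K)ᵒᵖ), s.π.app L ≫ pullback.fst _ _ = toX s := by
    intro s L
    let h : L ⟶ op L₀ := (homOfLE (show L₀.1 ≤ L.unop.1 from bot_le) : L₀ ⟶ L.unop).op
    show _ = s.π.app (op L₀) ≫ _
    rw [← s.w h, Category.assoc]
    dsimp [bc]
    rw [pullback.lift_fst]
  let toK : ∀ s : Cone (bc (K := K) f), s.pt ⟶ Spec (CommRingCat.of K) := fun s => hS.lift (sc s)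
  have htoK : ∀ s L, toK s ≫ Spec.map ((cocone k K).ι.app L) = s.π.app (op L) ≫ pullback.snd _ _ :=
    fun s L => hS.fac (sc s) (op L)
  have hsp : Spec.map ((cocone k K).ι.app L₀) ≫ sp L₀ =
      Spec.map (CommRingCat.ofHom (algebraMap k K)) := by
    show Spec.map _ ≫ Spec.map _ = Spec.map _
    rw [← Spec.map_comp]
    rfl
  refine
    { lift := fun s => pullback.lift (toX s) (toK s) ?_
      fac := fun s L => ?_
      uniq := fun s m hm => ?_ }
  · rw [← hsp, ← Category.assoc, htoK, Category.assoc, Category.assoc]
    dsimp [bc]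
    rw [pullback.condition]
  · dsimp [bcCone]
    apply pullback.hom_ext
    · rw [Category.assoc, pullback.lift_fst, pullback.lift_fst, htoX]
    · rw [Category.assoc, pullback.lift_snd, pullback.lift_snd_assoc]
      exact htoK s L.unop
  · apply pullback.hom_ext
    · rw [pullback.lift_fst, ← htoX s (op L₀), ← hm (op L₀), Category.assoc]
      dsimp [bcCone]
      rw [pullback.lift_fst]
    · rw [pullback.lift_snd]
      refine hS.uniq (sc s) _ fun L => ?_
      show (m ≫ _) ≫ Spec.map ((cocone k K).ι.app L.unop) = s.π.app L ≫ _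
      rw [← hm L, Category.assoc, Category.assoc]
      dsimp [bcCone]
      rw [pullback.lift_snd]

instance isAffineHom_fgbc_map {L M : (FSub k K)ᵒᵖ} (h : L ⟶ M) : IsAffineHom ((bc (K := K) f).map h) := by
  haveI : ∀ S : FSub k K, IsAffineHom (pullback.fst f (sp S)) := fun S => by
    exact MorphismProperty.pullback_fst (P := @IsAffineHom) f (sp S) (isAffineHom_of_isAffine _)
  haveI : IsAffineHom (((bc (K := K) f).map h) ≫ pullback.fst f (sp M.unop)) := by
    dsimp [bc]
    rw [pullback.lift_fst]
    infer_instance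
  exact IsAffineHom.of_comp _ (pullback.fst f (sp M.unop))


theorem inj_general (k K : Type u) [Field k] [Field K] [Algebra k K] : Inj k K := by
  intro X XK g _ _ p gK sq _ δ δK hδ hδK n α hα hc h0
  have hX := setup_over_field g hδ
  haveI := hX.1
  haveI : LocallyOfFiniteType gK := MorphismProperty.of_isPullback sq ‹LocallyOfFiniteType g›
  have hXK := setup_over_field gK hδK
  have hP : ∀ S : FSub k K, IsPullback (pullback.fst g (sp S)) (pullback.snd g (sp S)) g (fieldMap k S.1) :=
    fun S => IsPullback.of_hasPullback g (sp S)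
  choose δS hsS hcS using fun S : FSub k K =>
    Groth.L22.Cyc.exists_setup (pullback.snd g (sp S)) (Groth.L22.SymCorr.isSetup_field S.1)
  haveI hfl : ∀ S : FSub k K, Flat (pullback.fst g (sp S)) := fun S =>
    MorphismProperty.pullback_fst (P := @Flat) g (sp S) (Groth.L07.SyntOverField.flat_over_field _)
  have hmapsq : ∀ (S T : (FSub k K)ᵒᵖ) (f : S ⟶ T),
      IsPullback ((bc (K := K) g).map f) (pullback.snd g (sp S.unop)) (pullback.snd g (sp T.unop))
        (Spec.map ((diagram k K).map f.unop)) := fun S T f => by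
    refine IsPullback.of_right ?_ (pullback.lift_snd _ _ _) (hP T.unop)
    dsimp [bc]
    rw [pullback.lift_fst, show Spec.map ((diagram k K).map f.unop) ≫ fieldMap k T.unop.1 = fieldMap k S.unop.1
      from map_sp f.unop]
    exact hP S.unop
  have hflat : ∀ (S T : (FSub k K)ᵒᵖ) (f : S ⟶ T), Flat ((bc (K := K) g).map f) := fun S T f =>
    MorphismProperty.of_isPullback (hmapsq S T f).flip (Groth.L07.SyntOverField.flat_over_field _)
  have hshift : ∀ (S T : (FSub k K)ᵒᵖ) (f : S ⟶ T),
      Shift ((bc (K := K) g).map f) (δS S.unop) (δS T.unop) 0 := fun S T f =>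
    shift_bc (hmapsq S T f) (fun _ _ => (add_zero _).symm) (hcS T.unop) (hcS S.unop)
  /- the given base change as a cone -/
  let φ : ∀ S : FSub k K, XK ⟶ pullback g (sp S) := fun S =>
    pullback.lift p (gK ≫ Spec.map ((cocone k K).ι.app S)) (by
      rw [sq.w, Category.assoc]
      congr 1
      show Spec.map _ = Spec.map _ ≫ Spec.map _
      rw [← Spec.map_comp]
      rfl)
  let ψ : XK ≅ (bcCone (K := K) g).pt := sq.isoPullback
  let c : Cone (bc (K := K) g) := (bcCone (K := K) g).extend ψ.hom
  have hc' : IsLimit c := IsLimit.extendIso ψ.hom (isLimitBcCone (K := K) g)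
  have hπ : ∀ S, c.π.app S = φ S.unop := fun S => by
    show ψ.hom ≫ (bcCone (K := K) g).π.app S = φ S.unop
    apply pullback.hom_ext <;> simp [bcCone, φ, ψ]
  have hφsq : ∀ S : FSub k K, IsPullback (φ S) gK (pullback.snd g (sp S)) (Spec.map ((cocone k K).ι.app S)) :=
    fun S => by
      refine IsPullback.of_right ?_ (pullback.lift_snd _ _ _) (hP S)
      rw [pullback.lift_fst, show Spec.map ((cocone k K).ι.app S) ≫ fieldMap k S.1 = fieldMap k K from
        (Spec.map_comp _ _).symm]
      exact sq
  have hflat' : ∀ S, Flat (c.π.app S) := fun S => by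
    rw [hπ]
    exact MorphismProperty.of_isPullback (hφsq S.unop).flip (Groth.L07.SyntOverField.flat_over_field _)
  have hshift' : ∀ S : (FSub k K)ᵒᵖ, Shift (c.π.app S) δK (δS S.unop) 0 := fun S => by
    rw [hπ]
    exact shift_bc (hφsq S.unop) (fun _ _ => (add_zero _).symm) (hcS S.unop) hδK
  haveI : CompactSpace X := QuasiCompact.compactSpace_of_compactSpace g
  have hqc : ∀ S : (FSub k K)ᵒᵖ, CompactSpace ↥((bc (K := K) g).obj S) := fun S => by
    haveI : QuasiCompact (pullback.snd g (sp S.unop)) :=
      MorphismProperty.pullback_snd (P := @QuasiCompact) g (sp S.unop) inferInstance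
    exact QuasiCompact.compactSpace_of_compactSpace (pullback.snd g (sp S.unop))
  let L₀ : (FSub k K)ᵒᵖ := op ⟨⊥, IntermediateField.fg_bot⟩
  haveI := (hsS L₀.unop).1
  have hc₀ : Shift (pullback.fst g (sp L₀.unop)) (δS L₀.unop) δ 0 :=
    shift_bc (hP L₀.unop) (shift_fieldMap k _) hδ (hcS L₀.unop)
  have hα₀ : pullC _ hc₀ α ∈ Cyc.Zk _ (δS L₀.unop) n := by
    simpa using pullC_mem (pullback.fst g (sp L₀.unop)) hc₀ hα
  have hfac : φ L₀.unop ≫ pullback.fst g (sp L₀.unop) = p := pullback.lift_fst _ _ _
  haveI : Flat (φ L₀.unop) := hπ L₀ ▸ hflat' L₀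
  haveI : IsLocallyNoetherian (((Functor.const (FSub k K)ᵒᵖ).obj c.pt).obj L₀) := ‹IsLocallyNoetherian XK›
  have e0 : ⇑(pullC p hc α) = Cyc.pullFun (c.π.app L₀) δK (δS L₀.unop) 0 ⇑(pullC _ hc₀ α) := by
    funext x
    rw [Groth.L22.Cyc.pullFun_eq' (c.π.app L₀) (hshift' L₀), pullC_coe, pullC_coe,
      Groth.L22.Cyc.pullFun_eq' p hc]
    simp only [Groth.L22.Cyc.pullFun_eq' (pullback.fst g (sp L₀.unop)) hc₀, hπ]
    rw [← Groth.L22.Cyc.mult_congr _ hfac x, Groth.L22.Cyc.mult_comp, ENat.toNat_mul, Nat.cast_mul, ← mul_assoc,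
      ← hfac]
    rfl
  obtain ⟨j, f, αj, hαj, hj⟩ := Groth.Agent.S6497.result (FSub k K) (bc (K := K) g) c hc'
    (fun S T f => inferInstance) hflat hqc (fun S => δS S.unop) δK (fun S => hsS S.unop) hXK
    (fun S T f x hx => (hshift S T f x hx).trans (add_zero _)) hflat'
    (fun S x hx => (hshift' S x hx).trans (add_zero _)) n L₀ _ hα₀ _ e0 h0
  haveI := (hsS j.unop).1
  haveI : IsLocallyNoetherian ((bc (K := K) g).obj j) := (hsS j.unop).1
  haveI := hflat j L₀ f
  have hcj : Shift (pullback.fst g (sp j.unop)) (δS j.unop) δ 0 :=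
    shift_bc (hP j.unop) (shift_fieldMap k _) hδ (hcS j.unop)
  have hfac' : (bc (K := K) g).map f ≫ pullback.fst g (sp L₀.unop) = pullback.fst g (sp j.unop) :=
    pullback.lift_fst _ _ _
  have hαj' : αj = pullC (pullback.fst g (sp j.unop)) hcj α := Function.locallyFinsuppWithin.ext fun x => by
    rw [hαj, Groth.L22.Cyc.pullFun_eq' _ (hshift j L₀ f)]
    beta_reduce
    erw [Groth.L22.Chern.pullC_apply, Groth.L22.Chern.pullC_apply]
    rw [← Groth.L22.Cyc.mult_congr _ hfac' x, Groth.L22.Cyc.mult_comp, ENat.toNat_mul, Nat.cast_mul, ← mul_assoc,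
      ← hfac']
    rfl
  obtain ⟨t, ht⟩ : ∃ t : Finset K, IntermediateField.adjoin k (t : Set K) = j.unop.1 := j.unop.2
  have hinj : Inj k j.unop.1 := by
    classical
    refine inj_of_adjoin t.card k j.unop.1 (t.attach.image fun x =>
      (⟨x.1, ht.le (IntermediateField.subset_adjoin k _ x.2)⟩ : j.unop.1))
      (Finset.card_image_le.trans (Finset.card_attach).le) ?_
    apply IntermediateField.map_injective j.unop.1.val
    rw [IntermediateField.adjoin_map, ← AlgHom.fieldRange_eq_map, IntermediateField.fieldRange_val]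
    refine Eq.trans (congrArg _ ?_) ht
    ext z
    simp only [Finset.coe_image, Set.mem_image, Finset.mem_coe, Finset.mem_attach, true_and]
    constructor
    · rintro ⟨_, ⟨x, rfl⟩, rfl⟩; exact x.2
    · intro hz; exact ⟨_, ⟨⟨z, hz⟩, rfl⟩, rfl⟩
  exact hinj X _ g (pullback.fst g (sp j.unop)) (pullback.snd g (sp j.unop)) (hP j.unop) δ (δS j.unop) hδ
    (hcS j.unop) n α hα hcj (hαj' ▸ hj)

end Groth.L22.RatDescent
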