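import Groth.Agent.L22.RatDescent.GysinShift
import Groth.Agent.L22.Chern.Classes
import Groth.Agent.L22.Bundle.AffBundle
import Groth.Agent.L22.SymCorr.Dim

/-!
Specialisation over a discrete valuation ring with rational closed point: pulling back cycles to the generic
point is injective on rational equivalence classes.
-/

set_option autoImplicit false
set_option linter.style.haveILetI false
set_option maxSynthPendingDepth 3
set_option synthInstance.maxHeartbeats 400000
set_option backward.isDefEq.respectTransparency false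
set_option backward.isDefEq.respectTransparency.types false

universe u

open CategoryTheory CategoryTheory.Limits AlgebraicGeometry TopologicalSpace
open Groth.L22.Chern (Shift pullC pullC_coe pullC_apply pullC_mem pullC_rat pullC_square ratGroup gys gys_apply gys_rat)
open Groth.L22.Sp (eta sp dR sec)

noncomputable section

namespace Groth.L22.RatDescent

variable {k : Type u} [Field k] {R : Type u} [CommRing R] [IsDomain R] [IsDiscreteValuationRing R]
  {X XL T : Scheme.{u}}

theorem rat_of_rat_dvr (e : Spec (CommRingCat.of R) ⟶ Spec (CommRingCat.of k))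
    (hres : IsIso ((Spec (CommRingCat.of R)).fromSpecResidueField (sp R) ≫ e))
    (j : T ⟶ Spec (CommRingCat.of R)) [IsOpenImmersion j] (hjr : Set.range j = {eta R})
    (g : X ⟶ Spec (CommRingCat.of k)) [LocallyOfFiniteType g]
    (pL : XL ⟶ X) (gL : XL ⟶ T) [LocallyOfFiniteType gL] (sqL : IsPullback pL gL g (j ≫ e))
    {δ : X → ℤ} (hδ : Cyc.DeltaCompat g δ fun _ => 0) {δL : XL → ℤ}
    (hδL : Cyc.DeltaCompat gL δL fun _ => 0) [IsLocallyNoetherian X] [IsLocallyNoetherian XL]
    (hX : Cyc.IsDimFun X δ) (hXL : Cyc.IsDimFun XL δL)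
    (hc : Shift pL δL δ 0) {n : ℤ} {α : AlgebraicCycle X ℤ} (hα : α ∈ Cyc.Zk X δ n)
    (h0 : pullC pL hc α ∈ ratGroup hXL n) : α ∈ ratGroup hX n := by
  classical
  haveI := hres
  haveI : Flat e := Groth.L07.SyntOverField.flat_over_field e
  haveI : Flat g := Groth.L07.SyntOverField.flat_over_field g
  let p : pullback g e ⟶ X := pullback.fst g e
  let a : pullback g e ⟶ Spec (CommRingCat.of R) := pullback.snd g e
  have sq : IsPullback p a g e := IsPullback.of_hasPullback g e
  obtain ⟨δR, hsR, hδR⟩ := Groth.L22.Cyc.exists_setup a (Groth.L22.Sp.isSetup_base R)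
  haveI := hsR.1
  have he : Shift e (dR R) (fun _ => 0) 1 := fun x hx => by
    rcases Groth.L22.Sp.point_cases R x with rfl | rfl
    · rw [Groth.L22.Sp.dR_eta, zero_add]
    · exact absurd (hx (eta R) (Subsingleton.elim _ _)
        ((PrimeSpectrum.le_iff_specializes (eta R) (sp R)).1 (by
          rw [← PrimeSpectrum.asIdeal_le_asIdeal, Groth.L22.Sp.eta_asIdeal]; exact bot_le)))
        (Groth.L22.Sp.sp_ne_eta R).symm
  have hp : Shift p δR δ 1 := shift_bc sq he hδ hδR
  /- the generic fibre -/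
  let m : XL ⟶ pullback g e := pullback.lift pL (gL ≫ j) (by rw [sqL.w, Category.assoc])
  have hmp : m ≫ p = pL := pullback.lift_fst _ _ _
  have hma : m ≫ a = gL ≫ j := pullback.lift_snd _ _ _
  have sqm : IsPullback m gL a j := IsPullback.of_right (hmp.symm ▸ sqL) hma sq
  haveI : IsOpenImmersion m := MorphismProperty.of_isPullback sqm.flip ‹IsOpenImmersion j›
  have hmeta : ∀ y, a (m y) = eta R := fun y => by
    rw [← Scheme.Hom.comp_apply, hma, Scheme.Hom.comp_apply]
    exact hjr.le ⟨_, rfl⟩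
  have hms : Shift m.isoOpensRange.inv (fun u => δR (m.opensRange.ι u)) δL 1 := fun u _ => by
    obtain ⟨y, rfl⟩ : ∃ y, m.isoOpensRange.hom y = u :=
      ⟨m.isoOpensRange.inv u, by rw [← Scheme.Hom.comp_apply, Iso.inv_hom_id]; rfl⟩
    show δR (m.opensRange.ι (m.isoOpensRange.hom y)) = δL (m.isoOpensRange.inv (m.isoOpensRange.hom y)) + 1
    rw [← Scheme.Hom.comp_apply, ← Scheme.Hom.comp_apply, m.isoOpensRange_hom_ι, Iso.hom_inv_id]
    show δR (m y) = δL y + 1
    obtain ⟨N, hN, hd⟩ := hδR (m y)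
    obtain ⟨M, hM, hd'⟩ := hδL y
    rw [hmeta, Groth.L22.Sp.dR_eta] at hd
    simp only [zero_add] at hd'
    have hr := Groth.L22.Cyc.rtrdeg_congr _ hma y
    rw [Groth.L22.Cyc.rtrdeg_comp, Groth.L22.Cyc.rtrdeg_comp, Groth.L22.Bundle.rtrdeg_eq_zero m,
      Groth.L22.Bundle.rtrdeg_eq_zero j, add_zero, zero_add] at hr
    have : N = M := Nat.cast_injective (R := Cardinal.{u}) ((hN.symm.trans hr).trans hM)
    omega
  have hι : Shift m.opensRange.ι (fun u => δR (m.opensRange.ι u)) δR 0 := fun u _ => (add_zero _).symm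
  have hdU : Cyc.IsDimFun (↑m.opensRange : Scheme.{u}) fun u => δR (m.opensRange.ι u) := by
    intro x y hxy hne
    have hinj := m.opensRange.ι.isOpenEmbedding.injective
    obtain ⟨h1, h2⟩ := hsR.2.2 (m.opensRange.ι x) (m.opensRange.ι y) (hxy.map m.opensRange.ι.continuous)
      (fun h => hne (hinj h))
    refine ⟨h1, fun hmid => h2 fun z hz1 hz2 => ?_⟩
    obtain ⟨w, rfl⟩ : z ∈ Set.range m.opensRange.ι := by
      rw [Scheme.Opens.range_ι]
      exact hz2.mem_open m.opensRange.isOpen (by
        have hy : m.opensRange.ι y ∈ Set.range m.opensRange.ι := ⟨y, rfl⟩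
        rwa [Scheme.Opens.range_ι] at hy)
    have hind := m.opensRange.ι.isEmbedding.isInducing
    rcases hmid w (hind.specializes_iff.1 hz1) (hind.specializes_iff.1 hz2) with h | h
    · exact Or.inl (congrArg _ h)
    · exact Or.inr (congrArg _ h)
  have hsquare : pullC m.isoOpensRange.inv hms (pullC pL hc α) = pullC m.opensRange.ι hι (pullC p hp α) :=
    pullC_square m.isoOpensRange.inv pL m.opensRange.ι p (by
      rw [← cancel_epi m.isoOpensRange.hom, Iso.hom_inv_id_assoc, ← Category.assoc,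
        m.isoOpensRange_hom_ι, hmp]) hms hc hι hp α
  have hU := pullC_rat m.isoOpensRange.inv hms hdU hXL h0
  rw [hsquare] at hU
  have hA : pullC p hp α ∈ Cyc.Zk (pullback g e) δR (n + 1) := pullC_mem p hp hα
  obtain ⟨γ, hγ, hγU, hAγ⟩ := Groth.Agent.S1863.result (pullback g e) δR hsR m.opensRange (n + 1)
    (pullC p hp α) 0 hA (fun _ _ => rfl) (pullC m.opensRange.ι hι (pullC p hp α)) 0
    (fun u => by rw [pullC_apply, Groth.L22.Bundle.mult_openImmersion, show ((1 : ℕ∞).toNat : ℤ) = 1 from rfl,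
      mul_one])
    (fun _ => rfl) (by rw [Cyc.RatEquiv, sub_zero]; exact hU)
  /- the closed fibre -/
  have hsupp : ∀ ξ, γ ξ ≠ 0 → a ξ = sp R := fun ξ h => by
    refine (Groth.L22.Sp.point_cases R (a ξ)).resolve_left fun h' => h (hγU ξ ?_)
    obtain ⟨t, ht⟩ : a ξ ∈ Set.range j := by rw [hjr]; exact h'
    obtain ⟨y, hy, -⟩ := Scheme.exists_preimage_of_isPullback sqm ξ t ht.symm
    exact ⟨y, hy⟩
  haveI := Groth.L22.Sp.isClosedImmersion_fiberι a
  let q : a.fiber (sp R) ⟶ X := a.fiberι (sp R) ≫ p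
  have sqq : IsPullback q (a.fiberToSpecResidueField (sp R)) g
      ((Spec (CommRingCat.of R)).fromSpecResidueField (sp R) ≫ e) :=
    ((IsPullback.of_hasPullback a ((Spec (CommRingCat.of R)).fromSpecResidueField (sp R))).flip.paste_vert
      sq.flip).flip
  haveI : IsIso q := sqq.isIso_fst_of_isIso
  have hrsp : Groth.L22.Cyc.rtrdeg e (sp R) = 0 := by
    obtain ⟨t, ht⟩ : sp R ∈ Set.range ((Spec (CommRingCat.of R)).fromSpecResidueField (sp R)) := by
      rw [Scheme.range_fromSpecResidueField]; rfl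
    have h := Groth.L22.Bundle.rtrdeg_eq_zero ((Spec (CommRingCat.of R)).fromSpecResidueField (sp R) ≫ e) t
    rw [Groth.L22.Cyc.rtrdeg_comp, ht] at h
    exact (add_eq_zero.1 h).1
  have hδq : ∀ z, δR (a.fiberι (sp R) z) = δ (q z) := fun z => by
    have haz : a (a.fiberι (sp R) z) = sp R := Groth.L22.Cyc.fromSpec_fiber_apply a (sp R) z
    obtain ⟨N, hN, hd⟩ := hδR (a.fiberι (sp R) z)
    obtain ⟨M, hM, hd'⟩ := hδ (q z)
    rw [haz, Groth.L22.Sp.dR_sp, zero_add] at hd
    rw [zero_add] at hd'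
    have hr := Groth.L22.Cyc.rtrdeg_congr (q ≫ g) (f' := (a.fiberι (sp R) ≫ a) ≫ e)
      (by rw [Category.assoc, sq.w, Category.assoc]) z
    rw [Groth.L22.Cyc.rtrdeg_comp q g, Groth.L22.Cyc.rtrdeg_comp (a.fiberι (sp R) ≫ a) e,
      Groth.L22.Cyc.rtrdeg_comp (a.fiberι (sp R)) a,
      show (a.fiberι (sp R) ≫ a) z = sp R from haz, hrsp,
      Groth.L22.Bundle.rtrdeg_eq_zero (a.fiberι (sp R)), Groth.L22.Bundle.rtrdeg_eq_zero q, add_zero, add_zero,
      zero_add] at hr
    have : M = N := Nat.cast_injective (R := Cardinal.{u}) ((hM.symm.trans hr).trans hN)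
    omega
  have hdD := Groth.L22.Cyc.isDimFun_closedImmersion (a.fiberι (sp R)) hsR.2.2
  haveI : IsLocallyNoetherian (a.fiber (sp R)) := LocallyOfFiniteType.isLocallyNoetherian (a.fiberι (sp R))
  have hL := Groth.L18.Ample.isInvertible_structureModule (pullback g e)
  have hfr := Groth.L21.RR.isFrame_oneSec (X := pullback g e)
  let w : (ξ : ↥(pullback g e)) → Cyc.secFibre (Coh.structureModule (pullback g e)) ξ := fun ξ =>
    Groth.L22.C1.mk _ ((Coh.structureModule (pullback g e)).presheaf.germ ⊤ ξ trivial (Groth.L21.RR.oneSec _))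
  have hw : ∀ ξ, w ξ ≠ 0 := fun ξ => Groth.L22.C1.mk_gen_ne_zero hL (Groth.L22.C1.isGen_germ hfr trivial)
  have hreg : ∀ x, Function.Injective (fun b : (pullback g e).presheaf.stalk x =>
      b • ((Coh.structureModule (pullback g e)).presheaf.germ ⊤ x trivial) (sec a)) := fun x => by
    haveI : Flat a := MorphismProperty.of_isPullback sq ‹Flat g›
    have hreg' : Function.Injective fun b : (pullback g e).presheaf.stalk x => Groth.L22.Sp.pi a x * b := by
      letI := (a.stalkMap x).hom.toAlgebra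
      haveI : Module.Flat ((Spec (CommRingCat.of R)).presheaf.stalk (a x)) ((pullback g e).presheaf.stalk x) :=
        Flat.stalkMap a x
      have h : IsSMulRegular ((pullback g e).presheaf.stalk x) (Groth.L22.Bundle.gS (a x) (Groth.L22.Sp.unif R)) :=
        Module.Flat.isSMulRegular_of_nonZeroDivisors
          (mem_nonZeroDivisors_of_ne_zero (Groth.L22.Sp.gS_unif_ne_zero (a x)))
      intro b b' hb
      refine h ?_
      show (a.stalkMap x).hom _ * b = (a.stalkMap x).hom _ * b'
      rw [← Groth.L22.Sp.pi_eq]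
      exact hb
    intro b b' hb
    simp only [Groth.L22.Sp.germ_sec, smul_smul] at hb
    refine hreg' ?_
    show Groth.L22.Sp.pi a x * b = Groth.L22.Sp.pi a x * b'
    rw [mul_comm _ b, mul_comm _ b']
    exact (Groth.L22.Sp.isGen_oneGerm x).injective hL hb
  have hD := Groth.L22.Sp.isZeroSchemeOf a
  have hgγ : gys (a.fiberι (sp R)) hsR.2.2 hL (sec a) hw γ = 0 := by
    refine Function.locallyFinsuppWithin.ext fun d => ?_
    rw [gys_apply]
    refine finsum_eq_zero_of_forall_eq_zero fun ξ => ?_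
    by_cases h : γ ξ = 0
    · rw [h, zero_mul]
    · rw [show Cyc.gysinChoice (Coh.structureModule (pullback g e)) (sec a) w ξ = w ξ from
        if_neg (not_not.2 ((Groth.L22.Sp.mk_sec_eq_zero_iff a ξ).2 (hsupp ξ h))),
        Groth.L22.C1.secDivFun_frame hsR.2.2 hL hfr ξ, mul_zero]
  haveI : Flat q := inferInstance
  haveI : Flat (a.fiberι (sp R) ≫ p) := ‹Flat q›
  haveI : Flat p := MorphismProperty.of_isPullback sq.flip ‹Flat e›
  have hq : Shift q (fun d => δR (a.fiberι (sp R) d)) δ 0 := fun z _ => by rw [add_zero]; exact hδq z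
  have hgA : gys (a.fiberι (sp R)) hsR.2.2 hL (sec a) hw (pullC p hp α) = pullC q hq α := by
    refine Function.locallyFinsuppWithin.ext fun d => ?_
    rw [gys_apply, pullC_coe, pullC_coe, show (1 : ℤ) = 0 + 1 from rfl]
    exact gysin_relCartier_shift p (a.fiberι (sp R)) hL (sec a) hsR
      (Groth.L22.Chern.setup_of_compat g (Groth.L22.SymCorr.isSetup_field k) hδ) 0 hp hreg hD
      (fun z _ => by rw [add_zero]; exact hδq z) (n - 1) α (by rw [sub_add_cancel]; exact hα) w d
  have hr : pullC p hp α - (0 + γ) ∈ ratGroup hsR.2.2 (n + 1) := hAγ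
  rw [zero_add] at hr
  have h1 := gys_rat (a.fiberι (sp R)) hsR.2.2 hL (sec a) hw hdD hD hr
  rw [map_sub, hgγ, sub_zero, hgA, add_sub_cancel_right] at h1
  have hq' : Shift (inv q) δ (fun d => δR (a.fiberι (sp R) d)) 0 := fun x _ => by
    show δ x = δR (a.fiberι (sp R) (inv q x)) + 0
    rw [add_zero, hδq, ← Scheme.Hom.comp_apply, IsIso.inv_hom_id]
    rfl
  have h2 := pullC_rat (inv q) hq' hX hdD h1
  have e2 : pullC (inv q) hq' (pullC q hq α) = α := Function.locallyFinsuppWithin.ext fun x => by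
    rw [pullC_apply, pullC_apply, Groth.L22.Bundle.mult_openImmersion, Groth.L22.Bundle.mult_openImmersion,
      ← Scheme.Hom.comp_apply, IsIso.inv_hom_id]
    simp
  rwa [e2, add_zero] at h2

end Groth.L22.RatDescent
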