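import Groth.Agent.L22.RatDescent.Steps
import Mathlib.RingTheory.Algebraic.Basic

/-!
Rational injectivity of the flat pullback of cycles along finitely generated field extensions.
-/

set_option autoImplicit false
set_option linter.style.haveILetI false
set_option maxSynthPendingDepth 3
set_option synthInstance.maxHeartbeats 400000

universe u

open Polynomial

noncomputable section

namespace Groth.L22.RatDescent

theorem inj_of_adjoin : ∀ (n : ℕ) (k L : Type u) [Field k] [Field L] [Algebra k L] (s : Finset L),
    s.card ≤ n → IntermediateField.adjoin k (s : Set L) = ⊤ → Inj k L := by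
  intro n
  induction n with
  | zero =>
    intro k L _ _ _ s hs htop
    rw [Finset.card_eq_zero.1 (Nat.le_zero.1 hs), Finset.coe_empty, IntermediateField.adjoin_empty] at htop
    haveI : Module.Finite k (⊤ : IntermediateField k L) := htop ▸ inferInstance
    haveI : Module.Finite k L := Module.Finite.equiv IntermediateField.topEquiv.toLinearEquiv
    exact inj_finite k L
  | succ n ih =>
    intro k L _ _ _ s hs htop
    classical
    by_cases hsn : s.card ≤ n
    · exact ih k L s hsn htop
    obtain ⟨x, hx⟩ : s.Nonempty := Finset.card_pos.1 (by omega)
    have hcard : (s.erase x).card ≤ n := by rw [Finset.card_erase_of_mem hx]; omega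
    have key : ∀ (M : Type u) [Field M] [Algebra k M] [Algebra M L] [IsScalarTower k M L],
        x ∈ Set.range (algebraMap M L) → Inj k M → Inj k L := by
      intro M _ _ _ _ hxM h₁
      refine inj_trans k M L h₁ (ih M L (s.erase x) hcard (top_le_iff.1 fun z _ => ?_))
      have hle : IntermediateField.adjoin k (s : Set L) ≤
          (IntermediateField.adjoin M ((s.erase x : Finset L) : Set L)).restrictScalars k := by
        rw [IntermediateField.adjoin_le_iff]
        intro y hy
        by_cases hyx : y = x
        · obtain ⟨c, hc⟩ := hxM
          have h := (IntermediateField.adjoin M ((s.erase x : Finset L) : Set L)).algebraMap_mem c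
          rw [hc, ← hyx] at h
          subst hyx
          exact h
        · exact IntermediateField.subset_adjoin M _ (Finset.mem_coe.2 (Finset.mem_erase.2 ⟨hyx, hy⟩))
      exact hle (htop.ge IntermediateField.mem_top)
    by_cases halg : IsAlgebraic k x
    · haveI : FiniteDimensional k (IntermediateField.adjoin k ({x} : Set L)) :=
        IntermediateField.adjoin.finiteDimensional halg.isIntegral
      exact key (IntermediateField.adjoin k ({x} : Set L)) ⟨⟨x, IntermediateField.mem_adjoin_simple_self k x⟩, rfl⟩ (inj_finite k _)
    · have hinj : Function.Injective (aeval (R := k) x) := transcendental_iff_injective.1 halg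
      have hunit : ∀ b : (Ideal.span {(X : k[X])}).primeCompl, IsUnit (aeval x (b : k[X])) := fun b =>
        isUnit_iff_ne_zero.2 fun h => b.2 (by rw [hinj (h.trans (map_zero (aeval x)).symm)]; exact zero_mem _)
      let φR : Orig k →ₐ[k] L := IsLocalization.liftAlgHom
        (M := (Ideal.span {(X : k[X])}).primeCompl) (f := aeval x) hunit
      have hφR : Function.Injective φR := by
        rw [injective_iff_map_eq_zero]
        intro r hr
        obtain ⟨⟨a, b⟩, hab⟩ := IsLocalization.surj (Ideal.span {(X : k[X])}).primeCompl r
        have h := congrArg φR hab
        rw [map_mul, hr, zero_mul, IsLocalization.liftAlgHom_apply, IsLocalization.lift_eq] at h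
        have ha : a = 0 := hinj (by rw [map_zero (aeval (R := k) x)]; exact h.symm)
        rw [ha, map_zero] at hab
        exact (mul_eq_zero.1 hab).resolve_right (IsLocalization.map_units (Orig k) b).ne_zero
      let φ : FractionRing (Orig k) →+* L := IsFractionRing.lift (g := φR.toRingHom) hφR
      letI : Algebra (FractionRing (Orig k)) L := φ.toAlgebra
      haveI : IsScalarTower k (FractionRing (Orig k)) L := IsScalarTower.of_algebraMap_eq fun c => by
        show algebraMap k L c = φ (algebraMap k (FractionRing (Orig k)) c)
        rw [IsScalarTower.algebraMap_apply k (Orig k) (FractionRing (Orig k)), IsFractionRing.lift_algebraMap]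
        exact (φR.commutes c).symm
      refine key _ ⟨algebraMap (Orig k) _ (algebraMap k[X] (Orig k) X), ?_⟩ (inj_ratFunc k)
      show φ _ = x
      rw [IsFractionRing.lift_algebraMap]
      show φR (algebraMap k[X] (Orig k) X) = x
      rw [IsLocalization.liftAlgHom_apply, IsLocalization.lift_eq]
      exact aeval_X x

end Groth.L22.RatDescent
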