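import Groth.Agent.L22.Cyc.BaseChange
import Groth.Agent.L22.Cyc.ClosedSub
import Groth.Agent.L22.Bundle.Immersion
import Groth.Agent.L22.Chern.Ops
import Mathlib.AlgebraicGeometry.IdealSheaf.Subscheme

/-!
Dimension shifts of the projection of a flat base change.
-/

set_option autoImplicit false
set_option linter.style.haveILetI false
set_option backward.isDefEq.respectTransparency false
set_option backward.isDefEq.respectTransparency.types false

universe u

open AlgebraicGeometry CategoryTheory CategoryTheory.Limits TopologicalSpace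

namespace Groth.L22.RatDescent

/-- The projection of a base change along a flat morphism shifts dimensions as the morphism does. -/
theorem shift_bc {S S' X X' : Scheme.{u}} {p : X' ⟶ X} {g' : X' ⟶ S'} {g : X ⟶ S} {e : S' ⟶ S}
    [LocallyOfFiniteType g] (sq : IsPullback p g' g e) {δS : S → ℤ} {δS' : S' → ℤ} {c : ℤ}
    (hc : Groth.L22.Chern.Shift e δS' δS c) {δ : X → ℤ} {δ' : X' → ℤ}
    (hδ : Cyc.DeltaCompat g δ δS) (hδ' : Cyc.DeltaCompat g' δ' δS') :
    Groth.L22.Chern.Shift p δ' δ c := by
  intro x hx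
  obtain ⟨ι, hι, hrange⟩ : ∃ (ι : (Scheme.IdealSheafData.vanishingIdeal
      (⟨closure {p x}, isClosed_closure⟩ : Closeds X)).subscheme ⟶ X),
      IsClosedImmersion ι ∧ Set.range ι = closure {p x} :=
    ⟨(Scheme.IdealSheafData.vanishingIdeal _).subschemeι, inferInstance, by
      rw [Scheme.IdealSheafData.range_subschemeι]; rfl⟩
  haveI := hι
  obtain ⟨z, hz⟩ : p x ∈ Set.range ι := by rw [hrange]; exact subset_closure rfl
  have hgen : ∀ v, z ⤳ v := fun v => ι.isEmbedding.isInducing.specializes_iff.1 (by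
    rw [hz, specializes_iff_mem_closure]
    exact hrange.le ⟨v, rfl⟩)
  obtain ⟨t, ht, ht'⟩ := Scheme.Pullback.exists_preimage_pullback z x hz
  have sqZ : IsPullback (pullback.fst ι p) (pullback.snd ι p ≫ g') (ι ≫ g) e :=
    (IsPullback.of_hasPullback ι p).paste_vert sq |>.of_iso (Iso.refl _) (Iso.refl _) (Iso.refl _)
      (Iso.refl _) (by simp) (by simp) (by simp) (by simp)
  have htgen : Groth.L22.Cyc.FibGen (pullback.snd ι p ≫ g') t := by
    intro w _ hw
    have h1 : pullback.fst ι p w = z :=
      ((hw.map (pullback.fst ι p).continuous).trans (ht ▸ specializes_refl _)).antisymm (hgen _) |>.eq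
    refine (pullback.snd ι p).isEmbedding.injective ((hx _ ?_ ?_).trans ht'.symm)
    · rw [← Scheme.Hom.comp_apply, ← pullback.condition, Scheme.Hom.comp_apply, h1, hz]
    · have h2 := hw.map (pullback.snd ι p).continuous
      rw [ht'] at h2
      exact h2
  have hr := Groth.L22.Cyc.rtrdeg_baseChange sqZ htgen
  rw [Groth.L22.Cyc.rtrdeg_comp (pullback.snd ι p) g', Groth.L22.Cyc.rtrdeg_comp ι g,
    Groth.L22.Bundle.rtrdeg_eq_zero (pullback.snd ι p), Groth.L22.Bundle.rtrdeg_eq_zero ι,
    add_zero, add_zero, ht, ht', hz] at hr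
  obtain ⟨n, hn, h1⟩ := hδ' x
  obtain ⟨m, hm, h2⟩ := hδ (p x)
  have hnm : n = m := Nat.cast_injective (R := Cardinal.{u}) ((hn.symm.trans hr).trans hm)
  have h3 := hc _ (hx.of_baseChange sq.flip)
  have h4 : e (g' x) = g (p x) := by rw [← Scheme.Hom.comp_apply, ← sq.w, Scheme.Hom.comp_apply]
  rw [h4] at h3
  omega

end Groth.L22.RatDescent
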