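import Groth.Agent.L22.C1.GysinRel
import Groth.Agent.L22.Chern.Gysin
import Groth.Agent.L22.Sp.Sheaf
import Groth.Agent.L22.RatDescent.Shift
import Groth.Agent.L21.RR.Coh
import Groth.Agent.L07.SyntOverField
import Groth.Agent.S1863

/-!
The Gysin map of a relative divisor for morphisms with a given dimension shift.
-/

set_option autoImplicit false
set_option linter.style.haveILetI false
set_option maxSynthPendingDepth 3
set_option synthInstance.maxHeartbeats 400000
set_option backward.isDefEq.respectTransparency false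
set_option backward.isDefEq.respectTransparency.types false

universe u

open CategoryTheory AlgebraicGeometry TopologicalSpace TensorProduct
open Groth.L22.C1

noncomputable section

namespace Groth.L22.RatDescent

variable {X Y D : Scheme.{u}} (p : X ⟶ Y) (i : D ⟶ X) [IsClosedImmersion i] {L : X.Modules}
  (hL : PicF.IsInvertible L) (s : L.presheaf.obj (Opposite.op ⊤)) {δX : X → ℤ} {δY : Y → ℤ}

include hL in
theorem gysin_relCartier_shift [Flat p] [Flat (i ≫ p)] (hX : Cyc.IsSetup X δX)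
    (hY : Cyc.IsSetup Y δY) (r : ℤ) (hc : ∀ x, Groth.L22.Cyc.FibGen p x → δX x = δY (p x) + (r + 1))
    (hreg : ∀ x : X, Function.Injective (fun a : X.presheaf.stalk x => a • (L.presheaf.germ ⊤ x trivial) s))
    (hD : Cyc.IsZeroSchemeOf i L s)
    (hcD : ∀ z, Groth.L22.Cyc.FibGen (i ≫ p) z → δX (i z) = δY ((i ≫ p) z) + r) (k : ℤ) (α : AlgebraicCycle Y ℤ)
    (hα : α ∈ Cyc.Zk Y δY (k + 1)) (w : (ξ : X) → Cyc.secFibre L ξ) (d : D) :
    Cyc.c1CapFun δX L (Cyc.pullFun p δX δY (r + 1) ⇑α) (Cyc.gysinChoice L s w) (i d) =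
      Cyc.pullFun (i ≫ p) (fun d => δX (i d)) δY r ⇑α d := by
  classical
  haveI := hX.1
  haveI := hY.1
  have hD' := isSetup_closedImmersion i hX
  haveI := hD'.1
  choose F hF hsup hfun using fun η : Y => Groth.L22.IntMult.exists_module δY hY.2.2 η
  have hbd : ∀ η y : Y, Nontrivial ((F η).presheaf.stalk y) → δY y ≤ δY η := fun η y h => by
    by_cases hh : η = y
    · rw [hh]
    · exact (hY.2.2 η y (hsup η y h) hh).1.le
  have hP := fun η => Groth.Agent.S6477.result Y X p δY δX hY hX (r + 1) hc (δY η) (F η) (hF η) (hbd η)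
  have hQ := fun η => Groth.Agent.S6477.result Y D (i ≫ p) δY (fun d => δX (i d)) hY hD' r hcD (δY η) (F η) (hF η) (hbd η)
  have hcoh : ∀ η, Coh.IsCoh ((Scheme.Modules.pullback p).obj (F η)) := fun η => by
    haveI : Coh.IsQCoh (F η) := (hF η).1
    exact Groth.L16.AffineBC.isCoh_pullback p (hF η)
  set T := (finite_gen α (p (i d))).toFinset with hT
  have hTk : ∀ η ∈ T, δY η = k + 1 := fun η hη => by
    rw [hT, Set.Finite.mem_toFinset] at hη
    exact by_contra fun h => hη.2 (hα η h)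
  have hper : ∀ η ∈ T, Cyc.c1CapFun δX L (Cyc.pullFun p δX δY (r + 1) (Groth.L22.IntMult.ind η))
      (Cyc.gysinChoice L s w) (i d) = Cyc.pullFun (i ≫ p) (fun d => δX (i d)) δY r (Groth.L22.IntMult.ind η) d := by
    intro η _
    have e : δY η + (r + 1) = (δY η + r) + 1 := by ring
    rw [← hfun η, (hP η).2, (hQ η).2, e,
      gysin_sheafFun i hX.2.2 hL s hD (δY η + r) _ (hcoh η) (fun x h => by
        have := (hP η).1 x h
        omega) (fun x t f ht hf => smul_injective_pullback p i hL s hreg hD (F η) x t f ht hf) w d]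
    unfold Cyc.sheafFun
    split_ifs
    · exact congrArg (fun n : ℕ∞ => ((n.toNat : ℕ) : ℤ))
        (Groth.L07.AssTensor.length_iso ((Scheme.Modules.pullbackComp i p).app (F η)) d)
    · rfl
  have hfinX : ∀ η, {z : X | z ⤳ i d ∧ Cyc.pullFun p δX δY (r + 1) (Groth.L22.IntMult.ind η) z ≠ 0}.Finite :=
    fun η => by
      rw [← hfun η, (hP η).2]
      exact Groth.L22.IntMult.finite_sheafFun_gen δX hX.2.2 _ _ (hcoh η) (hP η).1 (i d)
  set S := (T.finite_toSet.biUnion fun η _ => hfinX η).toFinset with hS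
  have hlin : ∀ z, z ⤳ i d → Cyc.pullFun p δX δY (r + 1) (⇑α) z =
      ∑ η ∈ T, α η * Cyc.pullFun p δX δY (r + 1) (Groth.L22.IntMult.ind η) z := fun z hz =>
    sum_pullFun (δY := δY) p δX _ _ T z fun h => by
      rw [hT, Set.Finite.mem_toFinset]
      exact ⟨hz.map p.continuous, h⟩
  have hmem : ∀ η ∈ T, ∀ z, z ⤳ i d → Cyc.pullFun p δX δY (r + 1) (Groth.L22.IntMult.ind η) z ≠ 0 → z ∈ S :=
    fun η hη z h1 h2 => by
      rw [hS, Set.Finite.mem_toFinset]
      exact Set.mem_biUnion hη ⟨h1, h2⟩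
  have hcap : ∀ G : X → ℤ, (∀ z, z ⤳ i d → G z ≠ 0 → z ∈ S) →
      Cyc.c1CapFun δX L G (Cyc.gysinChoice L s w) (i d) =
        ∑ z ∈ S, G z * Cyc.secDivFun δX L z (Cyc.gysinChoice L s w z) (i d) := fun G hG =>
    finsum_eq_sum_of_support_subset _ fun z hz => by
      obtain ⟨h1, h2⟩ := mul_ne_zero_iff.1 hz
      exact Finset.mem_coe.2 (hG z (secDivFun_ne_zero δX h2).1 h1)
  rw [sum_pullFun (δY := δY) (i ≫ p) _ _ _ T d fun h => by
      rw [hT, Set.Finite.mem_toFinset]
      exact ⟨specializes_refl _, h⟩,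
    ← Finset.sum_congr rfl fun η hη => by rw [← hper η hη, hcap _ (hmem η hη), Finset.mul_sum],
    hcap _ fun z hz h => by
      rw [hlin z hz] at h
      obtain ⟨η, hη, hne⟩ := Finset.exists_ne_zero_of_sum_ne_zero h
      exact hmem η hη z hz (right_ne_zero_of_mul hne),
    Finset.sum_comm]
  refine Finset.sum_congr rfl fun z hz => ?_
  have hz' : z ⤳ i d := by
    rw [hS, Set.Finite.mem_toFinset, Set.mem_iUnion₂] at hz
    obtain ⟨_, _, h, _⟩ := hz
    exact h
  rw [hlin z hz', Finset.sum_mul]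
  exact Finset.sum_congr rfl fun η _ => mul_assoc _ _ _

end Groth.L22.RatDescent
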